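import Mathlib

/-! Squarefree multivariate forms over a perfect field, detected on a line. -/

set_option autoImplicit false

open Polynomial

noncomputable section

namespace Groth.Agent.SqFree13

variable {k : Type*} [Field k] {σ : Type*} [Fintype σ]

/-- restriction to the line `v + t w` -/
def line {S : Type*} [CommRing S] [Algebra k S] (v : σ → S) (w : σ → k) : MvPolynomial σ k →ₐ[k] S[X] :=
  MvPolynomial.aeval fun i => C (v i) + X * C (algebraMap k S (w i))

omit [Fintype σ] in
theorem prod_coeff {S : Type*} [CommRing S] {ι : Type*} (s : Finset ι) (f : ι → S[X]) (n : ι → ℕ)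
    (h : ∀ i ∈ s, (f i).natDegree ≤ n i) :
    (∏ i ∈ s, f i).natDegree ≤ ∑ i ∈ s, n i ∧
      (∏ i ∈ s, f i).coeff (∑ i ∈ s, n i) = ∏ i ∈ s, (f i).coeff (n i) := by
  classical
  induction s using Finset.induction with
  | empty => simp
  | insert a s ha ih =>
    obtain ⟨h1, h2⟩ := ih fun i hi => h i (Finset.mem_insert_of_mem hi)
    have h3 := h a (Finset.mem_insert_self a s)
    rw [Finset.prod_insert ha, Finset.sum_insert ha, Finset.prod_insert ha]
    exact ⟨natDegree_mul_le.trans (Nat.add_le_add h3 h1),
      by rw [coeff_mul_add_eq_of_natDegree_le h3 h1, h2]⟩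

theorem line_monomial {S : Type*} [CommRing S] [Algebra k S] (v : σ → S) (w : σ → k) (e : σ →₀ ℕ) (c : k) :
    (line v w (MvPolynomial.monomial e c)).natDegree ≤ e.degree ∧
      (line v w (MvPolynomial.monomial e c)).coeff e.degree =
        algebraMap k S (MvPolynomial.eval w (MvPolynomial.monomial e c)) := by
  have hl : ∀ i, (C (v i) + X * C (algebraMap k S (w i))).natDegree ≤ 1 := fun i => by
    compute_degree
  obtain ⟨h1, h2⟩ := prod_coeff Finset.univ
    (fun i => (C (v i) + X * C (algebraMap k S (w i))) ^ e i) (fun i => e i)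
    fun i _ => natDegree_pow_le.trans (by simpa using Nat.mul_le_mul_left (e i) (hl i))
  have hdeg : e.degree = ∑ i, e i := Finsupp.degree_eq_sum e
  have heq : line v w (MvPolynomial.monomial e c) =
      C (algebraMap k S c) * ∏ i, (C (v i) + X * C (algebraMap k S (w i))) ^ e i := by
    rw [line, MvPolynomial.aeval_monomial, Finsupp.prod_fintype _ _ (by simp), Polynomial.algebraMap_apply]
  rw [heq, hdeg]
  refine ⟨(natDegree_C_mul_le _ _).trans h1, ?_⟩
  rw [coeff_C_mul, h2, MvPolynomial.eval_monomial, Finsupp.prod_fintype _ _ (by simp), map_mul, map_prod]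
  congr 1
  refine Finset.prod_congr rfl fun i _ => ?_
  have := coeff_pow_of_natDegree_le (m := e i) (hl i)
  rw [mul_one] at this
  rw [this, map_pow]
  simp

theorem line_natDegree_le {S : Type*} [CommRing S] [Algebra k S] (v : σ → S) (w : σ → k)
    (P : MvPolynomial σ k) : (line v w P).natDegree ≤ P.totalDegree := by
  conv_lhs => rw [← MvPolynomial.support_sum_monomial_coeff P, map_sum]
  exact natDegree_sum_le_of_forall_le _ _ fun e he =>
    (line_monomial v w e _).1.trans (MvPolynomial.le_totalDegree he)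

theorem line_coeff {S : Type*} [CommRing S] [Algebra k S] (v : σ → S) (w : σ → k) {d : ℕ}
    (P : MvPolynomial σ k) (hP : P.IsHomogeneous d) :
    (line v w P).coeff d = algebraMap k S (MvPolynomial.eval w P) := by
  conv_lhs => rw [← MvPolynomial.support_sum_monomial_coeff P, map_sum]
  conv_rhs => rw [← MvPolynomial.support_sum_monomial_coeff P, map_sum, map_sum]
  rw [finsetSum_coeff]
  refine Finset.sum_congr rfl fun e he => ?_
  have hd : e.degree = d := (hP.degree_eq_sum_deg_support he).symm
  rw [← hd]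
  exact (line_monomial v w e _).2

/-- directional derivative -/
def dir (w : σ → k) : Derivation k (MvPolynomial σ k) (MvPolynomial σ k) :=
  ∑ i, w i • MvPolynomial.pderiv i

theorem dir_apply (w : σ → k) (P : MvPolynomial σ k) : dir w P = ∑ i, w i • MvPolynomial.pderiv i P := by
  change Derivation.coeFnAddMonoidHom (dir w) P = _
  rw [dir, map_sum, Finset.sum_apply]
  rfl

theorem dir_X (w : σ → k) (j : σ) : dir w (MvPolynomial.X j) = MvPolynomial.C (w j) := by
  classical
  rw [dir_apply]
  simp [MvPolynomial.pderiv_X, Pi.single_apply, MvPolynomial.smul_eq_C_mul]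

theorem derivative_line {S : Type*} [CommRing S] [Algebra k S] (v : σ → S) (w : σ → k)
    (P : MvPolynomial σ k) : derivative (line v w P) = line v w (dir w P) := by
  induction P using MvPolynomial.induction_on with
  | C a =>
    rw [← MvPolynomial.algebraMap_eq, AlgHom.commutes, Derivation.map_algebraMap, map_zero]
    exact derivative_C
  | add p q hp hq => simp only [map_add, hp, hq]
  | mul_X p i hp =>
    rw [map_mul, derivative_mul, hp, Derivation.leibniz, smul_eq_mul, smul_eq_mul, dir_X, map_add,
      map_mul, map_mul, ← MvPolynomial.algebraMap_eq, AlgHom.commutes, line, MvPolynomial.aeval_X]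
    simp only [derivative_add, derivative_C, derivative_mul, derivative_X, zero_add, one_mul,
      mul_zero, add_zero]
    rw [Polynomial.algebraMap_apply]
    ring

theorem exists_pderiv_ne_zero [PerfectField k] (f : MvPolynomial σ k) (hf : Irreducible f) :
    ∃ i, MvPolynomial.pderiv i f ≠ 0 := by
  classical
  by_contra! h
  have hdvd : ∀ e ∈ f.support, ∀ i, (e i : k) = 0 := fun e he i => by
    by_contra hne
    have h0 : e i ≠ 0 := fun h0 => hne (by rw [h0, Nat.cast_zero])
    obtain ⟨e', rfl⟩ : ∃ e', e = e' + Finsupp.single i 1 :=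
      ⟨e - Finsupp.single i 1, (tsub_add_cancel_of_le (Finsupp.single_le_iff.2 (by omega))).symm⟩
    have h1 := congrArg (MvPolynomial.coeff e') (h i)
    rw [MvPolynomial.coeff_pderiv, MvPolynomial.coeff_zero, mul_eq_zero] at h1
    exact h1.elim (MvPolynomial.mem_support_iff.1 he) (fun h2 => hne (by simpa using h2))
  obtain ⟨p, hchar⟩ := CharP.exists k
  have hC : f.totalDegree ≠ 0 := fun h0 => by
    obtain hz := MvPolynomial.totalDegree_eq_zero_iff_eq_C.1 h0
    refine hf.not_isUnit ?_
    rw [hz]
    refine (isUnit_iff_ne_zero.2 fun h1 => hf.ne_zero ?_).map MvPolynomial.C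
    rw [hz, h1, map_zero]
  rcases CharP.char_is_prime_or_zero k p with hp | rfl
  · haveI := Fact.mk hp
    haveI : ExpChar k p := ExpChar.prime hp
    haveI : PerfectRing k p := PerfectField.toPerfectRing p
    have hq : f = (∑ e ∈ f.support, MvPolynomial.monomial (e.mapRange (fun n => n / p) (Nat.zero_div p))
        ((frobeniusEquiv k p).symm (f.coeff e))) ^ p := by
      rw [sum_pow_char]
      conv_lhs => rw [← MvPolynomial.support_sum_monomial_coeff f]
      refine Finset.sum_congr rfl fun e he => ?_
      rw [MvPolynomial.monomial_pow, frobeniusEquiv_symm_pow_p]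
      refine congrArg (fun t => MvPolynomial.monomial t (f.coeff e)) (Finsupp.ext fun i => ?_)
      have : p ∣ e i := (CharP.cast_eq_zero_iff k p (e i)).1 (hdvd e he i)
      simp [Nat.mul_div_cancel' this]
    rw [hq] at hf
    exact not_irreducible_pow hp.one_lt.ne' hf
  · haveI : CharZero k := CharP.charP_to_charZero k
    apply hC
    rw [MvPolynomial.totalDegree_eq_zero_iff]
    intro e he i
    exact_mod_cast hdvd e he i

theorem pderiv_degree (f : MvPolynomial σ k) (i : σ) (hf : MvPolynomial.pderiv i f ≠ 0) :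
    (MvPolynomial.pderiv i f).totalDegree < f.totalDegree := by
  classical
  obtain ⟨m, hm, hmax⟩ := Finset.exists_mem_eq_sup _ (MvPolynomial.support_nonempty.2 hf)
    (fun s : σ →₀ ℕ => s.sum fun _ e => e)
  have hm' : f.coeff (m + Finsupp.single i 1) ≠ 0 := by
    rw [MvPolynomial.mem_support_iff, MvPolynomial.coeff_pderiv] at hm
    exact left_ne_zero_of_mul hm
  have h2 := MvPolynomial.le_totalDegree (MvPolynomial.mem_support_iff.2 hm')
  rw [MvPolynomial.totalDegree, hmax]
  rw [Finsupp.sum_add_index' (fun _ => rfl) (fun _ _ _ => rfl), Finsupp.sum_single_index rfl] at h2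
  exact h2

theorem dir_degree (w : σ → k) (f : MvPolynomial σ k) (h : dir w f ≠ 0) :
    (dir w f).totalDegree < f.totalDegree := by
  classical
  have heq := dir_apply w f
  have hpos : 0 < f.totalDegree := by
    by_contra! h0
    rw [Nat.le_zero, MvPolynomial.totalDegree_eq_zero_iff_eq_C] at h0
    exact h (by rw [h0, ← MvPolynomial.algebraMap_eq, Derivation.map_algebraMap])
  rw [heq]
  refine lt_of_le_of_lt (MvPolynomial.totalDegree_finsetSum_le (d := f.totalDegree - 1) fun i _ => ?_) (by omega)
  refine (MvPolynomial.totalDegree_smul_le _ _).trans ?_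
  by_cases h0 : MvPolynomial.pderiv i f = 0
  · rw [h0, MvPolynomial.totalDegree_zero]; omega
  · have := pderiv_degree f i h0; omega

theorem exists_eval_ne_zero [Infinite k] (P : MvPolynomial σ k) (h : P ≠ 0) : ∃ v, MvPolynomial.eval v P ≠ 0 := by
  by_contra! hc
  exact h (MvPolynomial.funext fun x => by rw [hc x, map_zero])

/-- A good direction. -/
theorem exists_dir [Infinite k] [PerfectField k] (F : MvPolynomial σ k) (hF : F ≠ 0) (hsq : Squarefree F) :
    ∃ w, MvPolynomial.eval w F ≠ 0 ∧ IsRelPrime F (dir w F) := by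
  classical
  let s := (UniqueFactorizationMonoid.factors F).toFinset
  have hex : ∀ P ∈ s, ∃ (e : σ →₀ ℕ) (L : MvPolynomial σ k), L ≠ 0 ∧
      ∀ w, MvPolynomial.eval w L = (dir w P).coeff e := fun P hP => by
    obtain ⟨i, hi⟩ := exists_pderiv_ne_zero P
      (UniqueFactorizationMonoid.irreducible_of_factor P (Multiset.mem_toFinset.1 hP))
    obtain ⟨e, he⟩ := MvPolynomial.ne_zero_iff.1 hi
    refine ⟨e, ∑ j, MvPolynomial.C ((MvPolynomial.pderiv j P).coeff e) * MvPolynomial.X j, ?_, fun w => ?_⟩
    · intro h0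
      apply he
      have := congrArg (MvPolynomial.eval (Pi.single i 1)) h0
      simpa [Pi.single_apply] using this
    · rw [dir_apply, MvPolynomial.coeff_sum, map_sum]
      refine Finset.sum_congr rfl fun j _ => ?_
      rw [map_mul, MvPolynomial.eval_C, MvPolynomial.eval_X,
        MvPolynomial.coeff_smul, smul_eq_mul, mul_comm]
  choose e L hL hLe using hex
  obtain ⟨w, hw⟩ := exists_eval_ne_zero (F * ∏ P ∈ s.attach, L P.1 P.2)
    (mul_ne_zero hF (Finset.prod_ne_zero_iff.2 fun P _ => hL _ _))
  rw [map_mul, mul_ne_zero_iff, map_prod, Finset.prod_ne_zero_iff] at hw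
  refine ⟨w, hw.1, fun c hc hc' => ?_⟩
  by_contra hu
  obtain ⟨P, hP, hPc⟩ := WfDvdMonoid.exists_irreducible_factor hu (ne_zero_of_dvd_ne_zero hF hc)
  obtain ⟨P₀, hP₀, hPP₀⟩ := UniqueFactorizationMonoid.exists_mem_factors_of_dvd hF hP (hPc.trans hc)
  have hP' : Prime P := hP.prime
  have hne : dir w P ≠ 0 := by
    obtain ⟨u, hu'⟩ := hPP₀.symm
    have h1 := hw.2 ⟨P₀, Multiset.mem_toFinset.2 hP₀⟩ (Finset.mem_attach _ _)
    rw [hLe] at h1
    intro h0
    have hu'' : ∃ a : k, (u : MvPolynomial σ k) = algebraMap k _ a :=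
      ⟨_, MvPolynomial.totalDegree_eq_zero_iff_eq_C.1
        ((MvPolynomial.isUnit_iff_totalDegree_of_isReduced).1 u.isUnit).2⟩
    obtain ⟨a, ha⟩ := hu''
    rw [← hu', ha, Derivation.leibniz, Derivation.map_algebraMap, smul_zero, zero_add, smul_eq_mul] at h0
    have : dir w P₀ = 0 := (mul_eq_zero.1 h0).resolve_left (by rw [← ha]; exact u.ne_zero)
    exact h1 (by rw [this, MvPolynomial.coeff_zero])
  obtain ⟨Q, rfl⟩ := hPc.trans hc
  have h2 := hPc.trans hc'
  rw [Derivation.leibniz, smul_eq_mul, smul_eq_mul] at h2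
  rcases hP'.dvd_or_dvd ((dvd_add_right (dvd_mul_right P _)).1 h2) with h3 | h3
  · exact hP.not_isUnit (hsq P (mul_dvd_mul_left P h3))
  · obtain ⟨q, hq⟩ := h3
    have h4 := dir_degree w P hne
    rw [hq, MvPolynomial.totalDegree_mul_of_isDomain hP.ne_zero (fun h0 => hne (by rw [hq, h0, mul_zero]))] at h4
    omega

/-- Squarefree forms have a line cutting `d` distinct points. -/
theorem exists_line [Infinite k] [PerfectField k] {d : ℕ} (hd : 1 ≤ d) (F : MvPolynomial σ k)
    (hh : F.IsHomogeneous d) (hF : F ≠ 0) (hsq : Squarefree F) :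
    ∃ (v w : σ → k), MvPolynomial.eval w F ≠ 0 ∧
      resultant (line v w F) (derivative (line v w F)) d (d - 1) ≠ 0 := by
  classical
  obtain ⟨w, hw, hrel⟩ := exists_dir F hF hsq
  let φ : MvPolynomial σ k →ₐ[k] (MvPolynomial σ k)[X] := line MvPolynomial.X w
  let f := φ F
  let g := φ (dir w F)
  have hfd : f.natDegree ≤ d := (line_natDegree_le _ _ _).trans (hh.totalDegree_le)
  have hco : f.coeff d = MvPolynomial.C (MvPolynomial.eval w F) := line_coeff _ _ F hh
  have hgd : g.natDegree ≤ d - 1 := by
    rw [show g = derivative f from (derivative_line _ _ _).symm]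
    exact (natDegree_derivative_le f).trans (by omega)
  -- the automorphism
  let τ (s : σ → k) : (MvPolynomial σ k)[X] →+* (MvPolynomial σ k)[X] :=
    eval₂RingHom (line MvPolynomial.X s : MvPolynomial σ k →ₐ[k] _).toRingHom X
  have hτ : ∀ a, τ (-w) (τ w a) = a := by
    intro a
    have hcomp : ((τ (-w)).comp (τ w)) = RingHom.id _ := by
      apply Polynomial.ringHom_ext'
      · apply MvPolynomial.ringHom_ext
        · intro c
          simp [τ, line]
        · intro i
          simp [τ, line]
      · simp [τ]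
    exact RingHom.congr_fun hcomp a
  have hτ' : ∀ a, τ w (τ (-w) a) = a := by
    intro a
    have hcomp : ((τ w).comp (τ (-w))) = RingHom.id _ := by
      apply Polynomial.ringHom_ext'
      · apply MvPolynomial.ringHom_ext
        · intro c
          simp [τ, line]
        · intro i
          simp [τ, line]
      · simp [τ]
    exact RingHom.congr_fun hcomp a
  have hτC : ∀ P, τ w (C P) = φ P := fun P => by simp [τ, φ]
  have hfg : IsRelPrime f g := by
    intro c h1 h2
    have h1' := map_dvd (τ (-w)) h1
    have h2' := map_dvd (τ (-w)) h2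
    rw [show f = τ w (C F) from (hτC F).symm, hτ] at h1'
    rw [show g = τ w (C (dir w F)) from (hτC _).symm, hτ] at h2'
    have h0 : (τ (-w) c).natDegree = 0 := by
      have := natDegree_le_of_dvd h1' (C_ne_zero.2 hF)
      rwa [natDegree_C, Nat.le_zero] at this
    rw [eq_C_of_natDegree_eq_zero h0] at h1' h2'
    have hu := hrel (_root_.map_dvd Polynomial.constantCoeff h1' |> (by simpa using ·))
      (_root_.map_dvd Polynomial.constantCoeff h2' |> (by simpa using ·))
    have : IsUnit (τ (-w) c) := by rw [eq_C_of_natDegree_eq_zero h0]; exact hu.map C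
    rw [← hτ' c]
    exact this.map _
  let u := MvPolynomial.eval w F
  let f₁ := C (MvPolynomial.C u⁻¹) * f
  have hf₁ : f₁.Monic := monic_of_natDegree_le_of_coeff_eq_one d ((natDegree_C_mul_le _ _).trans hfd)
    (by rw [coeff_C_mul, hco, ← map_mul, inv_mul_cancel₀ hw, map_one])
  let K := FractionRing (MvPolynomial σ k)
  let j := algebraMap (MvPolynomial σ k) K
  have hj : Function.Injective j := IsFractionRing.injective _ _
  have hcK : IsCoprime (f.map j) (g.map j) := by
    rw [← isRelPrime_iff_isCoprime]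
    intro c h1 h2
    have h1' : c ∣ f₁.map j := h1.trans (by rw [Polynomial.map_mul]; exact dvd_mul_left _ _)
    obtain ⟨c', hc'⟩ := IsIntegrallyClosed.eq_map_mul_C_of_dvd K hf₁ h1'
    have hc0 : c ≠ 0 := ne_zero_of_dvd_ne_zero (hf₁.map j).ne_zero h1'
    have hlc : c.leadingCoeff ≠ 0 := leadingCoeff_ne_zero.2 hc0
    have hm : c'.Monic := by
      refine monic_of_injective hj ?_
      have := congrArg leadingCoeff hc'
      rw [leadingCoeff_mul, leadingCoeff_C] at this
      exact (mul_eq_right₀ hlc).1 this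
    have hdvd : c'.map j ∣ c := ⟨_, hc'.symm⟩
    have hu : IsUnit c' := hfg
      ((Polynomial.map_dvd_map j hj hm).1 (hdvd.trans h1)) ((Polynomial.map_dvd_map j hj hm).1 (hdvd.trans h2))
    rw [← hc']
    exact (hu.map (mapRingHom j)).mul (isUnit_C.2 (isUnit_iff_ne_zero.2 hlc))
  have hu : f.coeff d ≠ 0 := by rw [hco]; exact MvPolynomial.C_ne_zero.2 hw
  have hfd' : f.natDegree = d := natDegree_eq_of_le_of_coeff_ne_zero hfd hu
  have hres : resultant f g d (d - 1) ≠ 0 := by
    intro h0
    have h1 : resultant (f.map j) (g.map j) d (d - 1) = 0 := by rw [resultant_map_map, h0, map_zero]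
    have hgm : (g.map j).natDegree ≤ d - 1 := natDegree_map_le.trans hgd
    obtain ⟨m, hm⟩ := Nat.exists_eq_add_of_le hgm
    rw [hm, resultant_add_right_deg _ _ _ _ _ le_rfl, mul_eq_zero] at h1
    have hfm : (f.map j).natDegree = d := by rw [natDegree_map_eq_of_injective hj, hfd']
    rcases h1 with h1 | h1
    · exact pow_ne_zero _ (by rw [coeff_map]; exact fun h => hu (hj (h.trans (map_zero j).symm))) h1
    · exact resultant_ne_zero _ _ hcK (by rw [hfm]; exact h1)
  obtain ⟨v, hv⟩ := exists_eval_ne_zero _ hres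
  refine ⟨v, w, hw, ?_⟩
  have hmap : ∀ P, (φ P).map (MvPolynomial.eval v) = line v w P := by
    have hh' : (mapRingHom (MvPolynomial.eval v)).comp φ.toRingHom = (line v w).toRingHom := by
      apply MvPolynomial.ringHom_ext
      · intro c
        simp [φ, line]
      · intro i
        simp [φ, line]
    exact fun P => RingHom.congr_fun hh' P
  rw [derivative_line, ← hmap, ← hmap, resultant_map_map]
  exact hv

/-- A line cutting `d` distinct points forces squarefreeness. -/
theorem squarefree_of_line {d : ℕ} (hd : 1 ≤ d) (F : MvPolynomial σ k)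
    (hh : F.IsHomogeneous d) (v w : σ → k) (hw : (line v w F).coeff d ≠ 0)
    (hsep : IsCoprime (line v w F) (derivative (line v w F))) : Squarefree F := by
  intro G hG
  obtain ⟨H, rfl⟩ := hG
  have hne : G * G * H ≠ 0 := fun h0 => hw (by rw [h0, map_zero, coeff_zero])
  obtain ⟨hGG, hH⟩ := mul_ne_zero_iff.1 hne
  obtain ⟨hG0, -⟩ := mul_ne_zero_iff.1 hGG
  have hsq : IsUnit (line v w G) := (separable_def _).2 hsep |>.squarefree _
    ⟨line v w H, by rw [map_mul, map_mul]⟩
  have h1 := natDegree_eq_zero_of_isUnit hsq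
  have h2 := hh.totalDegree hne
  rw [MvPolynomial.totalDegree_mul_of_isDomain hGG hH, MvPolynomial.totalDegree_mul_of_isDomain hG0 hG0] at h2
  have h3 := le_natDegree_of_ne_zero hw
  rw [map_mul, map_mul] at h3
  have h4 := (h3.trans natDegree_mul_le).trans (Nat.add_le_add natDegree_mul_le le_rfl)
  rw [h1] at h4
  have h5 := line_natDegree_le v w H
  have h6 : G.totalDegree = 0 := by omega
  rw [MvPolynomial.totalDegree_eq_zero_iff_eq_C] at h6
  rw [h6]
  refine (isUnit_iff_ne_zero.2 fun h0 => hG0 ?_).map MvPolynomial.C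
  rw [h6, h0, map_zero]

theorem isCoprime_of_resultant {d : ℕ} (hd : 1 ≤ d) (g : k[X]) (hg : g.natDegree ≤ d)
    (h : resultant g (derivative g) d (d - 1) ≠ 0) : IsCoprime g (derivative g) := by
  obtain ⟨p, q, -, -, e⟩ := exists_mul_add_mul_eq_C_resultant (m := d) (n := d - 1) g (derivative g) hg
    ((natDegree_derivative_le g).trans (by omega)) (Or.inl (by omega))
  refine ⟨C (resultant g (derivative g) d (d-1))⁻¹ * p, C (resultant g (derivative g) d (d-1))⁻¹ * q, ?_⟩
  rw [mul_assoc, mul_assoc, ← mul_add, mul_comm p, mul_comm q, e, ← map_mul, inv_mul_cancel₀ h, map_one]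

end Groth.Agent.SqFree13
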